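import Mathlib

/-!
# Localizations of abelian categories by calculi of fractions
-/

set_option autoImplicit false
set_option linter.style.haveILetI false

universe v v' u u'

open CategoryTheory CategoryTheory.Limits

namespace LocAbLib

variable {C : Type u} [Category.{v} C] [Abelian C] {D : Type u'} [Category.{v'} D] [Preadditive D]
  (L : C ⥤ D) [L.Additive] (W : MorphismProperty C) [W.HasLeftCalculusOfFractions]
  [W.HasRightCalculusOfFractions] [L.IsLocalization W]

include W

theorem mono_map {X Y : C} (m : X ⟶ Y) [Mono m] : Mono (L.map m) := by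
  haveI := Localization.essSurj L W
  refine Preadditive.mono_of_cancel_zero _ fun {V} g hg => ?_
  obtain ⟨φ, hφ⟩ := Localization.exists_rightFraction L W ((L.objObjPreimageIso V).hom ≫ g)
  haveI := Localization.inverts L W φ.s φ.hs
  rw [← cancel_epi (L.map φ.s), MorphismProperty.RightFraction.map_s_comp_map] at hφ
  have h0 : L.map (φ.f ≫ m) = L.map 0 := by
    rw [L.map_comp, ← hφ, L.map_zero, Category.assoc, Category.assoc, hg, comp_zero, comp_zero]
  obtain ⟨Z, t, ht, fac⟩ := (MorphismProperty.map_eq_iff_precomp L W _ _).1 h0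
  rw [comp_zero, ← Category.assoc, ← zero_comp (f := m), cancel_mono] at fac
  haveI := Localization.inverts L W t ht
  have hf : L.map φ.f = 0 := by
    rw [← cancel_epi (L.map t), ← L.map_comp, fac, L.map_zero, comp_zero]
  rw [hf] at hφ
  rw [← cancel_epi (L.objObjPreimageIso V).hom, ← cancel_epi (L.map φ.s), hφ, comp_zero, comp_zero]

theorem epi_map {X Y : C} (m : X ⟶ Y) [Epi m] : Epi (L.map m) := by
  haveI := Localization.essSurj L W
  refine Preadditive.epi_of_cancel_zero _ fun {V} g hg => ?_
  obtain ⟨φ, hφ⟩ := Localization.exists_leftFraction L W (g ≫ (L.objObjPreimageIso V).inv)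
  haveI := Localization.inverts L W φ.s φ.hs
  rw [← cancel_mono (L.map φ.s), MorphismProperty.LeftFraction.map_comp_map_s] at hφ
  have h0 : L.map (m ≫ φ.f) = L.map 0 := by
    rw [L.map_comp, ← hφ, L.map_zero, ← Category.assoc, ← Category.assoc, hg, zero_comp, zero_comp]
  obtain ⟨Z, t, ht, fac⟩ := (MorphismProperty.map_eq_iff_postcomp L W _ _).1 h0
  rw [zero_comp, Category.assoc, ← comp_zero (f := m), cancel_epi] at fac
  haveI := Localization.inverts L W t ht
  have hf : L.map φ.f = 0 := by
    rw [← cancel_mono (L.map t), ← L.map_comp, fac, L.map_zero, zero_comp]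
  rw [hf] at hφ
  rw [← cancel_mono (L.objObjPreimageIso V).inv, ← cancel_mono (L.map φ.s), hφ, zero_comp,
    zero_comp]

set_option backward.isDefEq.respectTransparency false in
theorem preservesKernel {X Y : C} (f : X ⟶ Y) : PreservesLimit (parallelPair f 0) L := by
  haveI := Localization.essSurj L W
  haveI := mono_map L W (kernel.ι f)
  suffices ∀ (V : D) (z : V ⟶ L.obj X) (hz : z ≫ L.map f = 0),
      ∃ (l : V ⟶ L.obj (kernel f)), l ≫ L.map (kernel.ι f) = z from
    preservesLimit_of_preserves_limit_cone (kernelIsKernel f)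
      ((KernelFork.isLimitMapConeEquiv _ L).2
        (Fork.IsLimit.ofExistsUnique
          (fun s ↦ existsUnique_of_exists_of_unique
            (this _ _ (KernelFork.condition s))
            (fun _ _ h₁ h₂ ↦ by simpa [cancel_mono] using h₁.trans h₂.symm))))
  intro V z hz
  obtain ⟨φ, hφ⟩ := Localization.exists_rightFraction L W ((L.objObjPreimageIso V).hom ≫ z)
  haveI := Localization.inverts L W φ.s φ.hs
  rw [← cancel_epi (L.map φ.s), MorphismProperty.RightFraction.map_s_comp_map] at hφ
  have h0 : L.map (φ.f ≫ f) = L.map 0 := by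
    rw [L.map_comp, ← hφ, L.map_zero, Category.assoc, Category.assoc, hz, comp_zero, comp_zero]
  obtain ⟨Z, t, ht, fac⟩ := (MorphismProperty.map_eq_iff_precomp L W _ _).1 h0
  rw [comp_zero, ← Category.assoc] at fac
  haveI := Localization.inverts L W t ht
  refine ⟨(L.objObjPreimageIso V).inv ≫ inv (L.map φ.s) ≫ inv (L.map t) ≫
    L.map (kernel.lift _ _ fac), ?_⟩
  simp only [Category.assoc, ← L.map_comp, kernel.lift_ι]
  rw [L.map_comp, IsIso.inv_hom_id_assoc, ← hφ]
  simp

set_option backward.isDefEq.respectTransparency false in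
theorem preservesCokernel {X Y : C} (f : X ⟶ Y) : PreservesColimit (parallelPair f 0) L := by
  haveI := Localization.essSurj L W
  haveI := epi_map L W (cokernel.π f)
  suffices ∀ (V : D) (z : L.obj Y ⟶ V) (hz : L.map f ≫ z = 0),
      ∃ (l : L.obj (cokernel f) ⟶ V), L.map (cokernel.π f) ≫ l = z from
    preservesColimit_of_preserves_colimit_cocone (cokernelIsCokernel f)
      ((CokernelCofork.isColimitMapCoconeEquiv _ L).2
        (Cofork.IsColimit.ofExistsUnique
          (fun s ↦ existsUnique_of_exists_of_unique
            (this _ _ (CokernelCofork.condition s))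
            (fun _ _ h₁ h₂ ↦ by simpa [cancel_epi] using h₁.trans h₂.symm))))
  intro V z hz
  obtain ⟨φ, hφ⟩ := Localization.exists_leftFraction L W (z ≫ (L.objObjPreimageIso V).inv)
  haveI := Localization.inverts L W φ.s φ.hs
  rw [← cancel_mono (L.map φ.s), MorphismProperty.LeftFraction.map_comp_map_s] at hφ
  have h0 : L.map (f ≫ φ.f) = L.map 0 := by
    rw [L.map_comp, ← hφ, L.map_zero, ← Category.assoc, ← Category.assoc, hz, zero_comp, zero_comp]
  obtain ⟨Z, t, ht, fac⟩ := (MorphismProperty.map_eq_iff_postcomp L W _ _).1 h0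
  rw [zero_comp, Category.assoc] at fac
  haveI := Localization.inverts L W t ht
  refine ⟨L.map (cokernel.desc _ _ fac) ≫ inv (L.map t) ≫ inv (L.map φ.s) ≫
    (L.objObjPreimageIso V).hom, ?_⟩
  rw [← Category.assoc, ← L.map_comp, cokernel.π_desc, L.map_comp, Category.assoc,
    IsIso.hom_inv_id_assoc, ← hφ]
  simp

omit W in
theorem kernel_ι_factorThruImage {X Y : C} (f : X ⟶ Y) :
    kernel.ι f ≫ Abelian.factorThruImage f = 0 := by
  rw [← cancel_mono (Abelian.image.ι f), Category.assoc, Abelian.image.fac, zero_comp,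
    kernel.condition]

/-- The coimage property of `factorThruImage`. -/
noncomputable def isCokernelFactorThruImage {X Y : C} (f : X ⟶ Y) :
    IsColimit (CokernelCofork.ofπ (Abelian.factorThruImage f) (kernel_ι_factorThruImage f) :
      CokernelCofork (kernel.ι f)) :=
  Abelian.epiIsCokernelOfKernel (f := Abelian.factorThruImage f)
    (KernelFork.ofι (kernel.ι f) (kernel_ι_factorThruImage f))
    (isKernelOfComp (Abelian.image.ι f) f (kernelIsKernel f) _ (Abelian.image.fac f))

theorem isIso_map_factorThruImage {X Y : C} (f : X ⟶ Y) [Mono (L.map f)] :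
    IsIso (L.map (Abelian.factorThruImage f)) := by
  haveI := preservesCokernel L W (kernel.ι f)
  have h0 : L.map (kernel.ι f) = 0 := by
    rw [← cancel_mono (L.map f), zero_comp, ← L.map_comp, kernel.condition, L.map_zero]
  have hc := (CokernelCofork.isColimitMapCoconeEquiv _ L).1
    (isColimitOfPreserves L (isCokernelFactorThruImage f))
  exact CokernelCofork.IsColimit.isIso_π _ hc h0

theorem isIso_map_imageι {X Y : C} (f : X ⟶ Y) [Epi (L.map f)] :
    IsIso (L.map (Abelian.image.ι f)) := by
  have h0 : L.map (cokernel.π f) = 0 := by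
    rw [← cancel_epi (L.map f), comp_zero, ← L.map_comp, cokernel.condition, L.map_zero]
  haveI := preservesKernel L W (cokernel.π f)
  have hk := (KernelFork.isLimitMapConeEquiv _ L).1
    (isLimitOfPreserves L (kernelIsKernel (cokernel.π f)))
  exact KernelFork.IsLimit.isIso_ι _ hk h0

theorem nonempty_normalMono {X Y : C} (f : X ⟶ Y) [Mono (L.map f)] :
    Nonempty (NormalMono (L.map f)) := by
  haveI := isIso_map_factorThruImage L W f
  haveI := preservesKernel L W (cokernel.π f)
  let e' : Arrow.mk (L.map (Abelian.image.ι f)) ≅ Arrow.mk (L.map f) :=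
    Arrow.isoMk (asIso (L.map (Abelian.factorThruImage f))).symm (Iso.refl _)
      (by simp [← L.map_comp])
  exact ⟨NormalMono.ofArrowIso
    { Z := L.obj (cokernel f)
      g := L.map (cokernel.π f)
      w := (L.map_comp _ _).symm.trans
        ((congrArg L.map (kernel.condition (cokernel.π f))).trans (L.map_zero _ _))
      isLimit := (KernelFork.isLimitMapConeEquiv
          (KernelFork.ofι (kernel.ι (cokernel.π f)) (kernel.condition _)) L).1
        (isLimitOfPreserves L (c := KernelFork.ofι (kernel.ι (cokernel.π f)) (kernel.condition _))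
          (kernelIsKernel (cokernel.π f))) } e'⟩

theorem nonempty_normalEpi {X Y : C} (f : X ⟶ Y) [Epi (L.map f)] :
    Nonempty (NormalEpi (L.map f)) := by
  haveI := isIso_map_imageι L W f
  haveI := preservesCokernel L W (kernel.ι f)
  let e' : Arrow.mk (L.map (Abelian.factorThruImage f)) ≅ Arrow.mk (L.map f) :=
    Arrow.isoMk (Iso.refl _) (asIso (L.map (Abelian.image.ι f)))
      (by simp [← L.map_comp])
  exact ⟨NormalEpi.ofArrowIso
    { W := L.obj (kernel f)
      g := L.map (kernel.ι f)
      w := (L.map_comp _ _).symm.trans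
        ((congrArg L.map (kernel_ι_factorThruImage f)).trans (L.map_zero _ _))
      isColimit := (CokernelCofork.isColimitMapCoconeEquiv _ L).1
        (isColimitOfPreserves L (isCokernelFactorThruImage f)) } e'⟩

theorem abelian_of_localization :
    Nonempty (Abelian D) ∧ PreservesFiniteLimits L ∧ PreservesFiniteColimits L := by
  haveI := Localization.essSurj L W
  haveI hA := Localization.essSurj_mapArrow L W
  haveI : HasFiniteProducts D := L.hasFiniteProducts_of_additive_of_essSurj
  haveI : HasKernels D := ⟨fun {X Y} f => by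
    obtain ⟨g, ⟨e⟩⟩ := hA.mem_essImage (Arrow.mk f)
    have := preservesKernel L W g.hom
    have : HasLimit (parallelPair (L.map g.hom) 0) :=
      ⟨_, (KernelFork.isLimitMapConeEquiv _ L).1
        (isLimitOfPreserves L (kernelIsKernel g.hom))⟩
    exact hasLimit_of_iso (show parallelPair (L.map g.hom) 0 ≅ parallelPair f 0 from
      parallelPair.ext (Arrow.leftFunc.mapIso e) (Arrow.rightFunc.mapIso e)
        (by exact (Arrow.w e.hom).symm) (by simp))⟩
  haveI : HasCokernels D := ⟨fun {X Y} f => by
    obtain ⟨g, ⟨e⟩⟩ := hA.mem_essImage (Arrow.mk f)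
    have := preservesCokernel L W g.hom
    have : HasColimit (parallelPair (L.map g.hom) 0) :=
      ⟨_, (CokernelCofork.isColimitMapCoconeEquiv _ L).1
        (isColimitOfPreserves L (cokernelIsCokernel g.hom))⟩
    exact hasColimit_of_iso (show parallelPair f 0 ≅ parallelPair (L.map g.hom) 0 from
      parallelPair.ext (Arrow.leftFunc.mapIso e.symm) (Arrow.rightFunc.mapIso e.symm)
        (by exact (Arrow.w e.inv).symm) (by simp))⟩
  haveI : IsNormalMonoCategory D := ⟨fun {X Y} f hf => by
    obtain ⟨g, ⟨e⟩⟩ := hA.mem_essImage (Arrow.mk f)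
    haveI : Mono (L.map g.hom) :=
      ((MorphismProperty.monomorphisms D).arrow_mk_iso_iff e).2 hf
    exact ⟨NormalMono.ofArrowIso (nonempty_normalMono L W g.hom).some e⟩⟩
  haveI : IsNormalEpiCategory D := ⟨fun {X Y} f hf => by
    obtain ⟨g, ⟨e⟩⟩ := hA.mem_essImage (Arrow.mk f)
    haveI : Epi (L.map g.hom) :=
      ((MorphismProperty.epimorphisms D).arrow_mk_iso_iff e).2 hf
    exact ⟨NormalEpi.ofArrowIso (nonempty_normalEpi L W g.hom).some e⟩⟩
  let hD : Abelian D := { }
  refine ⟨⟨hD⟩, ?_, ?_⟩
  · rw [((Functor.preservesFiniteLimits_tfae L).out 3 2 :)]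
    intro X Y f
    exact preservesKernel L W f
  · rw [((Functor.preservesFiniteColimits_tfae L).out 3 2 :)]
    intro X Y f
    exact preservesCokernel L W f

end LocAbLib
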